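import Groth.Agent.InvX.GenLocusPull
import Groth.Agent.InvX.Tensor
import Groth.Agent.InvUfdLib.Trivial
import Groth.Agent.Lib.CurveDeg
import Groth.Agent.QCoh.Support
import Groth.Agent.S7642

/-!
Invertible modules of non-positive degree on every component of a connected reduced curve.
-/

set_option autoImplicit false
set_option backward.isDefEq.respectTransparency false
set_option backward.isDefEq.respectTransparency.types false
set_option linter.style.haveILetI false
set_option linter.unusedSectionVars false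

universe u

open CategoryTheory CategoryTheory.Limits AlgebraicGeometry TopologicalSpace Opposite
open Groth.Agent.AModX Groth.Agent.InvX

namespace Groth.Agent.DegNonpos

variable (k : Type u) [Field k] {X : Scheme.{u}} [X.Over (Spec (CommRingCat.of k))]
  [IsProper (X ↘ (Spec (CommRingCat.of k)))] [IsNoetherian X]

/-- On a component a section vanishes nowhere or everywhere. -/
theorem component_dichotomy {L : X.Modules} (hL : PicF.IsInvertible L) (s : Γ(L, ⊤))
    (C : Set X) (hC : C ∈ irreducibleComponents (X : Type u)) (hdim : topologicalKrullDim C = 1)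
    (hdeg : @Curv2.deg k _ (X.irreducibleComponentIdeal C hC).radical.subscheme ⟨(X.irreducibleComponentIdeal C hC).radical.subschemeι ≫ (X ↘ (Spec (CommRingCat.of k)))⟩ ((Scheme.Modules.pullback (X.irreducibleComponentIdeal C hC).radical.subschemeι).obj L) 1 ≤ 0) :
    C ⊆ CohB1.genLocus L (ofSect s) ∨ ∀ x ∈ C, x ∉ CohB1.genLocus L (ofSect s) := by
  let I := (X.irreducibleComponentIdeal C hC).radical
  letI : I.subscheme.Over (Spec (CommRingCat.of k)) := ⟨I.subschemeι ≫ (X ↘ (Spec (CommRingCat.of k)))⟩
  haveI : IsProper (I.subscheme ↘ Spec (CommRingCat.of k)) :=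
    show IsProper (I.subschemeι ≫ (X ↘ Spec (CommRingCat.of k))) from inferInstance
  obtain ⟨hint, hdim1⟩ := S7642.comp_facts C hC
  haveI := hint
  have hr : Set.range I.subschemeι = C := by
    rw [Scheme.IdealSheafData.range_subschemeι, Scheme.IdealSheafData.support_radical]
    rfl
  let M := (Scheme.Modules.pullback I.subschemeι).obj L
  have hM : PicF.IsInvertible M := PicClLib.isInvertible_pullback I.subschemeι hL
  let t : Γ(M, ⊤) := pullElt I.subschemeι (U := ⊤) s
  -- the pulled back section on a frame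
  have key : ∀ z : I.subscheme, z ∈ CohB1.genLocus M (ofSect t) ↔ I.subschemeι z ∈ CohB1.genLocus L (ofSect s) := by
    intro z
    obtain ⟨U, hzU, ε, hε⟩ := InvX.exists_frame hL (I.subschemeι z)
    obtain ⟨g, hg⟩ := hε.exists_coord le_rfl (res L (le_top : U ≤ ⊤) s)
    rw [res_self] at hg
    have hg' : res M (le_top : I.subschemeι ⁻¹ᵁ U ≤ ⊤) t = I.subschemeι.app U g • pullElt I.subschemeι ε :=
      (res_pullElt I.subschemeι (le_top : U ≤ ⊤) s).trans ((congrArg _ hg).trans (pullElt_smul _ _ _))
    have h1 := genLocus_inf (ofSect t) (isFrame_pullElt I.subschemeι hε) (g := I.subschemeι.app U g)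
      (by rw [one_ofSect]; exact hg')
    have h2 := genLocus_inf (ofSect s) hε (g := g) (by rw [one_ofSect]; exact hg)
    have e1 := SetLike.ext_iff.1 h1 z
    have e2 := SetLike.ext_iff.1 h2 (I.subschemeι z)
    rw [← Scheme.preimage_basicOpen] at e1
    exact ⟨fun h => (e2.2 (e1.1 ⟨h, hzU⟩)).1, fun h => (e1.2 (e2.1 ⟨h, hzU⟩)).1⟩
  by_cases ht : ofSect t = 0
  · refine Or.inr fun x hx hxs => ?_
    obtain ⟨z, rfl⟩ := hr.ge hx
    obtain ⟨V, hzV, hV⟩ := mem_genLocus ((key z).2 hxs)
    rw [ht] at hV
    have h1 : res M (le_top : V ≤ ⊤) (one (0 : Coh.structureModule I.subscheme ⟶ M)) = 0 := by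
      rw [show one (0 : Coh.structureModule I.subscheme ⟶ M) = 0 from rfl, map_zero]
    rw [h1] at hV
    have h2 : (1 : Γ(I.subscheme, V)) = 0 := hV.coord_unique le_rfl (by rw [res_self, smul_zero, smul_zero])
    have h3 := congrArg (I.subscheme.presheaf.germ V z hzV).hom h2
    rw [map_one, map_zero] at h3
    exact one_ne_zero h3
  · refine Or.inl fun x hx => ?_
    obtain ⟨z, rfl⟩ := hr.ge hx
    refine (key z).1 ?_
    have hiso := (CurveDeg.deg_le_and_isIso k (le_of_eq (hdim1.trans hdim))
      CurveDeg.isInvertible_structureModule hM (ofSect t) ht)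
    rw [CurveDeg.deg_structureModule] at hiso
    haveI := hiso.2 (le_antisymm hiso.1 hdeg)
    exact Opens.mem_sSup.2 ⟨⊤, (show IsIso ((Scheme.Modules.restrictFunctor (⊤ : I.subscheme.Opens).ι).map (ofSect t)) from
      inferInstance), trivial⟩

theorem main [IsReduced X] [ConnectedSpace X]
    (hdim : ∀ (C : Set X), C ∈ irreducibleComponents (X : Type u) → topologicalKrullDim C = 1)
    (L : X.Modules) (hL : PicF.IsInvertible L)
    (hdeg : ∀ (C : Set X) (hC : C ∈ irreducibleComponents (X : Type u)), @Curv2.deg k _ (X.irreducibleComponentIdeal C hC).radical.subscheme ⟨(X.irreducibleComponentIdeal C hC).radical.subschemeι ≫ (X ↘ (Spec (CommRingCat.of k)))⟩ ((Scheme.Modules.pullback (X.irreducibleComponentIdeal C hC).radical.subschemeι).obj L) 1 ≤ 0) :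
    Subsingleton (Coh.HH X L 0) ∨ Nonempty (L ≅ Coh.structureModule X) := by
  classical
  by_cases hzero : ∀ s : Γ(L, ⊤), s = 0
  · exact Or.inl ((Sheaf.H.equiv₀ (Coh.toAb L) isTerminalTop).toEquiv.subsingleton_congr.2
      (subsingleton_of_forall_eq 0 hzero))
  push Not at hzero
  obtain ⟨s, hs⟩ := hzero
  refine Or.inr ?_
  let G := CohB1.genLocus L (ofSect s)
  have hclosed : IsClosed (G : Set X) := by
    have : (G : Set X) = ⋃ C ∈ {C ∈ irreducibleComponents (X : Type u) | C ⊆ G}, C := by
      ext x
      simp only [Set.mem_iUnion₂]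
      refine ⟨fun hx => ⟨irreducibleComponent x, ⟨irreducibleComponent_mem_irreducibleComponents x, ?_⟩,
        mem_irreducibleComponent⟩, fun ⟨C, hC, hxC⟩ => hC.2 hxC⟩
      have hmem := irreducibleComponent_mem_irreducibleComponents x
      exact (component_dichotomy k hL s _ hmem (hdim _ hmem) (hdeg _ hmem)).resolve_right
        fun h => h x mem_irreducibleComponent hx
    rw [this]
    exact ((NoetherianSpace.finite_irreducibleComponents (α := X)).subset (fun C hC => hC.1)).isClosed_biUnion
      fun C hC => isClosed_of_mem_irreducibleComponents C hC.1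
  rcases isClopen_iff.1 ⟨hclosed, G.isOpen⟩ with hG | hG
  · exfalso
    refine hs (eq_of_locally _ _ fun x _ => ?_)
    obtain ⟨U, hxU, ε, hε⟩ := InvX.exists_frame hL x
    obtain ⟨g, hg⟩ := hε.exists_coord le_rfl (res L (le_top : U ≤ ⊤) s)
    rw [res_self] at hg
    have h2 := genLocus_inf (ofSect s) hε (g := g) (by rw [one_ofSect]; exact hg)
    have hg0 : g = 0 := (basicOpen_eq_bot_iff g).1 <| by
      rw [← h2, show CohB1.genLocus L (ofSect s) = ⊥ from Opens.ext hG, bot_inf_eq]
    refine ⟨U, le_top, hxU, ?_⟩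
    show res L _ s = res L _ 0
    rw [hg, hg0, zero_smul, map_zero]
  · have hcov : ∀ x ∈ (⊤ : X.Opens), ∃ U : {U : X.Opens // IsFrame (res L (le_top : U ≤ ⊤) s)}, x ∈ U.1 := fun x _ => by
      obtain ⟨U, hxU, hU⟩ := mem_genLocus (show x ∈ G from hG.ge trivial)
      exact ⟨⟨U, by rwa [one_ofSect] at hU⟩, hxU⟩
    exact InvUfdLib.nonempty_iso_of_frame (InvUfdLib.isFrame_of_cover (fun U : {U : X.Opens //
      IsFrame (res L (le_top : U ≤ ⊤) s)} => U.1) (fun _ => le_top) hcov s fun U => U.2)

end Groth.Agent.DegNonpos
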